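import Cfsg.Agent.Lib.PrimeCycles.Twin11

/-! Two elements of large prime orders generate an alternating group on their joint support. -/

set_option autoImplicit false
set_option linter.unusedSectionVars false

namespace Cfsg.Agent.PrimeCycles.Generation

open Equiv MulAction Cfsg.Agent.PrimeCycles.Tools Cfsg.Agent.PrimeCycles.Twin

variable {β : Type*} [Fintype β] [DecidableEq β]

/-- A faithful point stabiliser embeds in the symmetric group of the other points. -/
theorem exists_hom_others {A Q : Type*} [Group A] [MulAction A Q] (base : Q)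
    (hfaith : ∀ g : A, (∀ u : Q, g • u = u) → g = 1) :
    ∃ ψ : stabilizer A base →* Perm {u : Q // u ≠ base}, Function.Injective ψ := by
  have hne : ∀ g : stabilizer A base, ∀ u : Q, u ≠ base → (g : A) • u ≠ base := fun g u hu h =>
    hu (MulAction.injective (g : A) (h.trans g.2.symm))
  let ψ : stabilizer A base →* Perm {u : Q // u ≠ base} :=
    { toFun := fun g => (MulAction.toPerm (g : A)).subtypePerm fun u => by
        constructor
        · exact fun h h' => h ((congrArg ((g : A) • ·) h').trans g.2)
        · exact hne g u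
      map_one' := by ext u; simp
      map_mul' := fun g h => by ext u; exact mul_smul (g : A) h (u : Q) }
  refine ⟨ψ, (MonoidHom.ker_eq_bot_iff ψ).1 ((Subgroup.eq_bot_iff_forall _).2 fun g hg => ?_)⟩
  apply Subtype.ext
  refine hfaith g fun u => ?_
  by_cases hu : u = base
  · rw [hu]; exact g.2
  · exact congrArg Subtype.val (Perm.congr_fun hg ⟨u, hu⟩)

theorem six {G : Subgroup (Perm β)} (hG : G ≤ alternatingGroup β) [IsPretransitive G β]
    {y : Perm β} (hyG : y ∈ G) (hy : orderOf y = 5) (hcard : Fintype.card β = 6) :
    G = alternatingGroup β ∨ Nonempty (G ≃* alternatingGroup (Fin 5)) := by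
  classical
  by_cases hne : G = alternatingGroup β
  · exact Or.inl hne
  right
  have : Nontrivial β := Fintype.one_lt_card_iff_nontrivial.1 (by omega)
  have hA : Nat.card (alternatingGroup β) = 360 := by
    rw [nat_card_alternatingGroup, Nat.card_eq_fintype_card, hcard]
    decide
  have hk := card_mul_index hG
  have hfac := alt_dvd_factorial hG (by omega) hne
  rw [hA] at hk hfac
  set k := (G.subgroupOf (alternatingGroup β)).index with hkdef
  have horb : ∀ c : β, (orbit G c).ncard = 6 := fun c => by
    rw [orbit_eq_univ, Set.ncard_univ, Nat.card_eq_fintype_card, hcard]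
  have hst : ∀ c : β, Nat.card G = 6 * Nat.card ↥(G ⊓ stabilizer (Perm β) c) := fun c => by
    rw [Sharp.card_eq_orbit_mul G c, horb c]
  have h5 : 5 ∣ Nat.card G := hy ▸ Subgroup.orderOf_dvd_natCard G hyG
  obtain ⟨c⟩ : Nonempty β := inferInstance
  have h30 : 30 ∣ Nat.card G := by
    have h6 : 6 ∣ Nat.card G := ⟨_, hst c⟩
    omega
  have hk6 : 6 ≤ k := by
    by_contra h
    have := Nat.le_of_dvd (Nat.factorial_pos k) hfac
    have := Nat.factorial_le (show k ≤ 5 by omega)
    norm_num [Nat.factorial] at this
    omega
  obtain ⟨r, hr⟩ := h30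
  have hr12 : r * k = 12 := by
    have : 30 * (r * k) = 360 := by rw [← hk, hr]; ring
    omega
  have hr0 : 0 < r := Nat.pos_of_ne_zero fun h => by simp [h] at hr12
  have hr2 : r ≤ 2 := by
    have : r * 6 ≤ r * k := Nat.mul_le_mul_left r hk6
    omega
  rcases (show r = 1 ∨ r = 2 by omega) with rfl | rfl
  · exfalso
    have hG30 : Nat.card G = 30 := by omega
    refine Sharp.sharp_false G Finset.univ (p := 5) (by norm_num) (by norm_num)
      (by rw [Finset.card_univ, hcard]) (fun g _ d _ => Finset.mem_univ _) hG30 ?_ ?_
    · intro d _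
      have := hst d
      omega
    · intro g _ hg d _ d' _ hgd hgd'
      by_contra hdd
      rcases cycle_or_double (by norm_num) hg (by omega) with ⟨-, h⟩ | h
      · have h1 : g.support ⊆ ({d, d'} : Finset β)ᶜ := by
          intro e he
          rw [Finset.mem_compl, Finset.mem_insert, Finset.mem_singleton]
          rintro (rfl | rfl) <;> exact (Perm.mem_support.1 he) ‹_›
        have h2 := Finset.card_le_card h1
        rw [Finset.card_compl, Finset.card_pair hdd, hcard, h] at h2
        omega
      · have := Finset.card_le_univ g.support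
        omega
  · -- index six: act on the other five cosets
    have hk' : k = 6 := by omega
    set L := G.subgroupOf (alternatingGroup β) with hL
    have hcardL : Nat.card L = 60 := by
      rw [hL, Nat.card_congr (Subgroup.subgroupOfEquivOfLe hG).toEquiv]
      omega
    have hcore : L.normalCore = ⊥ := by
      have hs : IsSimpleGroup (alternatingGroup β) :=
        alternatingGroup.isSimpleGroup (by rw [Nat.card_eq_fintype_card]; omega)
      rcases hs.eq_bot_or_eq_top_of_normal _ L.normalCore_normal with h | h
      · exact h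
      · exact absurd (top_le_iff.1 (h ▸ L.normalCore_le))
          fun h' => hne (le_antisymm hG (Subgroup.subgroupOf_eq_top.1 h'))
    set base : alternatingGroup β ⧸ L := ((1 : alternatingGroup β) : alternatingGroup β ⧸ L)
      with hbase
    have hSL : stabilizer (alternatingGroup β) base = L := stabilizer_quotient L
    obtain ⟨ψ, hψ⟩ := exists_hom_others (A := alternatingGroup β) base fun g hg => by
      have : g ∈ L.normalCore := by
        rw [Subgroup.normalCore_eq_ker, MonoidHom.mem_ker]
        exact Perm.ext hg
      rw [hcore] at this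
      exact Subgroup.mem_bot.1 this
    have hD : Nat.card {u : alternatingGroup β ⧸ L // u ≠ base} = 5 := by
      have h1 : Nat.card (alternatingGroup β ⧸ L) = 6 := hk'
      rw [Nat.card_eq_fintype_card, Fintype.card_subtype_compl, Fintype.card_subtype_eq,
        ← Nat.card_eq_fintype_card, h1]
    have hindex : ψ.range.index = 2 := by
      have h1 := ψ.range.card_mul_index
      rw [← Nat.card_congr (MonoidHom.ofInjective hψ).toEquiv,
        Nat.card_congr (MulEquiv.subgroupCongr hSL).toEquiv, hcardL, Nat.card_perm, hD] at h1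
      norm_num [Nat.factorial] at h1
      omega
    exact ⟨(Subgroup.subgroupOfEquivOfLe hG).symm.trans <| (MulEquiv.subgroupCongr hSL.symm).trans <|
      (MonoidHom.ofInjective hψ).trans <|
      (MulEquiv.subgroupCongr (Equiv.Perm.eq_alternatingGroup_of_index_eq_two hindex)).trans <|
      (Fintype.equivFinOfCardEq (by rw [← Nat.card_eq_fintype_card, hD])).altCongrHom⟩

theorem generation {x y : Perm β} {p q : ℕ} (hp : p.Prime) (hq : q.Prime) (hxe : Perm.sign x = 1)
    (hye : Perm.sign y = 1) (hx : orderOf x = p) (hy : orderOf y = q) (hpq : p < q)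
    (hcov : ∀ a, x a ≠ a ∨ y a ≠ a) (hle : Fintype.card β ≤ 2 * p)
    (hchoice : (p = 3 ∧ q = 5) ∨ (p = 5 ∧ q = 7) ∨ (p = 11 ∧ q = 13 ∧ Fintype.card β ≤ 16) ∨
      (p + 3 ≤ q ∧ (Fintype.card β < 2 * p ∨ q + 3 ≤ 2 * p))) :
    ∃ d : ℕ, 5 ≤ d ∧
      Nonempty (Subgroup.closure ({x, y} : Set (Perm β)) ≃* alternatingGroup (Fin d)) := by
  classical
  set G := Subgroup.closure ({x, y} : Set (Perm β)) with hGdef
  have hxG : x ∈ G := Subgroup.subset_closure (Set.mem_insert x {y})
  have hyG : y ∈ G := Subgroup.subset_closure (Set.mem_insert_of_mem x rfl)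
  have hG : G ≤ alternatingGroup β := by
    rw [hGdef, Subgroup.closure_le]
    rintro g (rfl | rfl) <;> assumption
  obtain ⟨hyc, hyq⟩ : y.IsCycle ∧ y.support.card = q := by
    rcases cycle_or_double hq hy (by omega) with h | h
    · exact h
    · have := Finset.card_le_univ y.support
      omega
  have hqd : q ≤ Fintype.card β := hyq ▸ Finset.card_le_univ _
  have h5 : 5 ≤ Fintype.card β := by
    have := hp.two_le
    omega
  have htr : IsPretransitive G β := isPretransitive_of_pair hxG hyG hp hx hyc hyq hcov (by omega)
  have hprim : IsPreprimitive G β := isPreprimitive_of_long_cycle hyG hq hyc hyq (by omega)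
  suffices h : G = alternatingGroup β ∨ Nonempty (G ≃* alternatingGroup (Fin 5)) by
    rcases h with h | h
    · exact ⟨Fintype.card β, h5,
        ⟨(MulEquiv.subgroupCongr h).trans (Fintype.equivFin β).altCongrHom⟩⟩
    · exact ⟨5, le_rfl, h⟩
  have hjq : q + 3 ≤ Fintype.card β → alternatingGroup β ≤ G := fun h =>
    Cfsg.Agent.S0713.result G hprim hq h5 h hyc hyq hyG
  rcases cycle_or_double hp hx (by have := hp.pos; omega) with ⟨hxc, hxp⟩ | hxp
  · left
    have hjp : p + 3 ≤ Fintype.card β → alternatingGroup β ≤ G := fun h =>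
      Cfsg.Agent.S0713.result G hprim hp h5 h hxc hxp hxG
    rcases hchoice with ⟨rfl, rfl⟩ | ⟨rfl, rfl⟩ | ⟨rfl, rfl, -⟩ | ⟨h, -⟩
    · exact le_antisymm hG
        (Equiv.Perm.alternatingGroup_le_of_isPreprimitive_of_isThreeCycle_mem hprim
          (card_support_eq_three_iff.1 hxp) hxG)
    · rcases Nat.lt_or_ge (Fintype.card β) 8 with h | h
      · exact Twin11.seven hG hxG hyG hxc hxp hyc hyq (by omega)
      · exact le_antisymm hG (hjp h)
    · rcases Nat.lt_or_ge (Fintype.card β) 14 with h | h
      · exact le_antisymm hG (Twin11.thirteen hG hprim hxG hyG hxc hxp hyc hyq (by omega))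
      · exact le_antisymm hG (hjp h)
    · exact le_antisymm hG (hjp (by omega))
  · have hd : Fintype.card β = 2 * p := by
      have := Finset.card_le_univ x.support
      omega
    rcases hchoice with ⟨rfl, rfl⟩ | ⟨rfl, rfl⟩ | ⟨rfl, rfl, h⟩ | ⟨-, h⟩
    · exact six hG hyG hy (by omega)
    · exact Or.inl (le_antisymm hG (hjq (by omega)))
    · omega
    · exact Or.inl (le_antisymm hG (hjq (by omega)))

end Cfsg.Agent.PrimeCycles.Generation
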