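import Mathlib

/-! Three primes in `(m/2, m]` for `m ≥ 17`, by the Erdős argument for Bertrand's postulate. -/

set_option autoImplicit false

namespace Cfsg.Agent.PrimeCycles.Primes

open Nat

theorem centralBinom_le (n : ℕ) (hn : 2 < n)
    (hB : ((Finset.Ioc n (2 * n)).filter Nat.Prime).card ≤ 2) :
    centralBinom n ≤ (2 * n) ^ (sqrt (2 * n) + 2) * 4 ^ (2 * n / 3) := by
  have n2 : 1 ≤ 2 * n := by omega
  set f : ℕ → ℕ := fun x => x ^ n.centralBinom.factorization x with hf
  have hfle : ∀ p, f p ≤ 2 * n := fun p => pow_factorization_choose_le (by omega)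
  have hsplit := n.prod_pow_factorization_centralBinom
  rw [← Finset.prod_filter_mul_prod_filter_not _ (· ≤ 2 * n / 3)] at hsplit
  have hbig : ∏ x ∈ (Finset.range (2 * n + 1)).filter (fun x => ¬ x ≤ 2 * n / 3), f x ≤
      (2 * n) ^ 2 := by
    rw [← Finset.prod_subset (s₁ := (Finset.Ioc n (2 * n)).filter Nat.Prime)]
    · refine (Finset.prod_le_prod' fun p _ => hfle p).trans ?_
      rw [Finset.prod_const]
      exact Nat.pow_le_pow_right n2 hB
    · intro x hx
      simp only [Finset.mem_filter, Finset.mem_Ioc, Finset.mem_range] at hx ⊢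
      omega
    · intro x hx hx'
      simp only [Finset.mem_filter, Finset.mem_Ioc, Finset.mem_range, not_and] at hx hx'
      simp only [hf]
      by_cases hp : x.Prime
      · have hle : x ≤ n := by
          by_contra h
          exact hx' ⟨by omega, by omega⟩ hp
        rw [factorization_centralBinom_of_two_mul_self_lt_three_mul hn hle (by omega), Nat.pow_zero]
      · rw [factorization_eq_zero_of_not_prime n.centralBinom hp, Nat.pow_zero]
  have hsmall : ∏ x ∈ (Finset.range (2 * n + 1)).filter (· ≤ 2 * n / 3), f x ≤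
      (2 * n) ^ sqrt (2 * n) * 4 ^ (2 * n / 3) := by
    let S := {p ∈ Finset.range (2 * n / 3 + 1) | Nat.Prime p}
    have hS : ∏ x ∈ S, f x = ∏ x ∈ (Finset.range (2 * n + 1)).filter (· ≤ 2 * n / 3), f x := by
      have hset : (Finset.range (2 * n + 1)).filter (· ≤ 2 * n / 3) =
          Finset.range (2 * n / 3 + 1) := by
        ext x
        simp only [Finset.mem_filter, Finset.mem_range]
        omega
      rw [hset]
      refine Finset.prod_filter_of_ne fun p _ h => ?_
      contrapose h
      dsimp only [f]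
      rw [factorization_eq_zero_of_not_prime n.centralBinom h, Nat.pow_zero]
    rw [← hS, ← Finset.prod_filter_mul_prod_filter_not S (· ≤ sqrt (2 * n))]
    apply mul_le_mul'
    · refine (Finset.prod_le_prod' fun p _ => hfle p).trans ?_
      rw [Finset.prod_const]
      refine Nat.pow_le_pow_right n2 ((Finset.card_le_card fun x hx => ?_).trans
        (Nat.card_Icc 1 (sqrt (2 * n))).le |>.trans (by omega))
      obtain ⟨h1, h2⟩ := Finset.mem_filter.1 hx
      exact Finset.mem_Icc.mpr ⟨(Finset.mem_filter.1 h1).2.one_lt.le, h2⟩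
    · refine le_trans ?_ (primorial_le_four_pow (2 * n / 3))
      refine (Finset.prod_le_prod' fun p hp => (?_ : f p ≤ p)).trans ?_
      · obtain ⟨h1, h2⟩ := Finset.mem_filter.1 hp
        refine (Nat.pow_le_pow_right (Finset.mem_filter.1 h1).2.pos ?_).trans (pow_one p).le
        exact Nat.factorization_choose_le_one (sqrt_lt'.mp <| not_le.1 h2)
      refine Finset.prod_le_prod_of_subset_of_one_le' (Finset.filter_subset _ _) ?_
      exact fun p hp _ => (Finset.mem_filter.1 hp).2.one_lt.le
  calc centralBinom n = _ := hsplit.symm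
    _ ≤ (2 * n) ^ sqrt (2 * n) * 4 ^ (2 * n / 3) * (2 * n) ^ 2 := Nat.mul_le_mul hsmall hbig
    _ = _ := by rw [pow_add]; ring

theorem twelve_mul_le {j : ℕ} (hj : 7 ≤ j) : 12 * (j + 1) + 1 ≤ 2 ^ j := by
  induction j, hj using Nat.le_induction with
  | base => norm_num
  | succ j _ ih => rw [pow_succ]; omega

theorem main_inequality {n : ℕ} (hn : 8192 ≤ n) :
    n * ((2 * n) ^ (sqrt (2 * n) + 2) * 4 ^ (2 * n / 3)) ≤ 4 ^ n := by
  set s := sqrt (2 * n) with hs
  set j := Nat.log 2 (s + 1) with hj
  have hs128 : 128 ≤ s := Nat.le_sqrt.2 (by omega)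
  have hj7 : 7 ≤ j := Nat.le_log_of_pow_le one_lt_two (by omega)
  have hj12 : 12 * (j + 1) ≤ s := by
    have h1 := twelve_mul_le hj7
    have h2 : 2 ^ j ≤ s + 1 := Nat.pow_log_le_self 2 (by omega)
    omega
  have h2n : 2 * n ≤ 2 ^ (2 * (j + 1)) := by
    have h1 : s + 1 < 2 ^ (j + 1) := Nat.lt_pow_succ_log_self one_lt_two _
    have h2 : 2 * n < (s + 1) * (s + 1) := Nat.lt_succ_sqrt (2 * n)
    have h3 : (s + 1) * (s + 1) ≤ 2 ^ (j + 1) * 2 ^ (j + 1) := Nat.mul_le_mul h1.le h1.le
    rw [← pow_add] at h3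
    rw [two_mul (j + 1)]
    omega
  have hsq : s * s ≤ 2 * n := Nat.sqrt_le (2 * n)
  have hexp : 2 * (j + 1) * (s + 3) + 2 * (2 * n / 3) ≤ 2 * n := by
    have h1 : 12 * (j + 1) * s ≤ s * s := Nat.mul_le_mul_right s hj12
    have h2 : 6 * (j + 1) * (s + 3) ≤ 12 * (j + 1) * s := by nlinarith
    have h3 : 2 * (2 * n / 3) * 3 ≤ 4 * n := by omega
    have h4 : 6 * (j + 1) * (s + 3) = 3 * (2 * (j + 1) * (s + 3)) := by ring
    omega
  calc n * ((2 * n) ^ (s + 2) * 4 ^ (2 * n / 3))
      ≤ (2 * n) * ((2 * n) ^ (s + 2) * 4 ^ (2 * n / 3)) := Nat.mul_le_mul_right _ (by omega)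
    _ = (2 * n) ^ (s + 3) * 4 ^ (2 * n / 3) := by ring
    _ ≤ (2 ^ (2 * (j + 1))) ^ (s + 3) * 4 ^ (2 * n / 3) :=
        Nat.mul_le_mul_right _ (Nat.pow_le_pow_left h2n _)
    _ = 2 ^ (2 * (j + 1) * (s + 3) + 2 * (2 * n / 3)) := by
        rw [pow_add 2 (2 * (j + 1) * (s + 3)), ← pow_mul, pow_mul 2 2 (2 * n / 3)]
        norm_num
    _ ≤ 2 ^ (2 * n) := Nat.pow_le_pow_right two_pos hexp
    _ = 4 ^ n := by rw [pow_mul]; norm_num

theorem three_primes_large {m : ℕ} (hm : 16384 ≤ m) :
    2 < ((Finset.Ioc (m / 2) m).filter Nat.Prime).card := by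
  by_contra hc
  have h1 : ((Finset.Ioc (m / 2) (2 * (m / 2))).filter Nat.Prime).card ≤ 2 := by
    refine le_trans (Finset.card_le_card ?_) (not_lt.1 hc)
    intro x hx
    simp only [Finset.mem_filter, Finset.mem_Ioc] at hx ⊢
    exact ⟨⟨hx.1.1, by omega⟩, hx.2⟩
  have h2 := Nat.four_pow_lt_mul_centralBinom (m / 2) (by omega)
  have h3 := Nat.mul_le_mul_left (m / 2) (centralBinom_le (m / 2) (by omega) h1)
  have h4 := main_inequality (n := m / 2) (by omega)
  omega

theorem exists_triple {m : ℕ} (hm : 17 ≤ m) :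
    ∃ a b c : ℕ, a.Prime ∧ b.Prime ∧ c.Prime ∧ a < b ∧ b < c ∧ m < 2 * a ∧ c ≤ m := by
  have key : ∀ a b c : ℕ, a.Prime → b.Prime → c.Prime → a < b → b < c →
      c ≤ m → m < 2 * a →
      ∃ a b c : ℕ, a.Prime ∧ b.Prime ∧ c.Prime ∧ a < b ∧ b < c ∧ m < 2 * a ∧ c ≤ m :=
    fun a b c h1 h2 h3 h4 h5 h6 h7 => ⟨a, b, c, h1, h2, h3, h4, h5, h7, h6⟩
  rcases Nat.lt_or_ge m 16384 with hs | hl
  · rcases Nat.lt_or_ge m 22 with h | h
    · exact key 11 13 17 (by norm_num) (by norm_num) (by norm_num) (by norm_num) (by norm_num)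
        (by omega) (by omega)
    rcases Nat.lt_or_ge m 26 with h' | h'
    · exact key 13 17 19 (by norm_num) (by norm_num) (by norm_num) (by norm_num) (by norm_num)
        (by omega) (by omega)
    rcases Nat.lt_or_ge m 34 with h1 | h1
    · exact key 17 19 23 (by norm_num) (by norm_num) (by norm_num) (by norm_num) (by norm_num)
        (by omega) (by omega)
    rcases Nat.lt_or_ge m 46 with h2 | h2
    · exact key 23 29 31 (by norm_num) (by norm_num) (by norm_num) (by norm_num) (by norm_num)
        (by omega) (by omega)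
    rcases Nat.lt_or_ge m 74 with h3 | h3
    · exact key 37 41 43 (by norm_num) (by norm_num) (by norm_num) (by norm_num) (by norm_num)
        (by omega) (by omega)
    rcases Nat.lt_or_ge m 134 with h4 | h4
    · exact key 67 71 73 (by norm_num) (by norm_num) (by norm_num) (by norm_num) (by norm_num)
        (by omega) (by omega)
    rcases Nat.lt_or_ge m 226 with h5 | h5
    · exact key 113 127 131 (by norm_num) (by norm_num) (by norm_num) (by norm_num) (by norm_num)
        (by omega) (by omega)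
    rcases Nat.lt_or_ge m 398 with h6 | h6
    · exact key 199 211 223 (by norm_num) (by norm_num) (by norm_num) (by norm_num) (by norm_num)
        (by omega) (by omega)
    rcases Nat.lt_or_ge m 766 with h7 | h7
    · exact key 383 389 397 (by norm_num) (by norm_num) (by norm_num) (by norm_num) (by norm_num)
        (by omega) (by omega)
    rcases Nat.lt_or_ge m 1502 with h8 | h8
    · exact key 751 757 761 (by norm_num) (by norm_num) (by norm_num) (by norm_num) (by norm_num)
        (by omega) (by omega)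
    rcases Nat.lt_or_ge m 2978 with h9 | h9
    · exact key 1489 1493 1499 (by norm_num) (by norm_num) (by norm_num) (by norm_num) (by norm_num)
        (by omega) (by omega)
    rcases Nat.lt_or_ge m 5926 with h10 | h10
    · exact key 2963 2969 2971 (by norm_num) (by norm_num) (by norm_num) (by norm_num) (by norm_num)
        (by omega) (by omega)
    rcases Nat.lt_or_ge m 11794 with h11 | h11
    · exact key 5897 5903 5923 (by norm_num) (by norm_num) (by norm_num) (by norm_num) (by norm_num)
        (by omega) (by omega)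
    exact key 11779 11783 11789 (by norm_num) (by norm_num) (by norm_num) (by norm_num)
      (by norm_num) (by omega) (by omega)
  · set T := (Finset.Ioc (m / 2) m).filter Nat.Prime with hT
    have hcard : 2 < T.card := three_primes_large hl
    let e := T.orderEmbOfFin rfl
    have hmem : ∀ i, m / 2 < e i ∧ e i ≤ m ∧ (e i).Prime := fun i => by
      have := T.orderEmbOfFin_mem rfl i
      simp only [hT, Finset.mem_filter, Finset.mem_Ioc] at this
      exact ⟨this.1.1, this.1.2, this.2⟩
    refine key (e ⟨0, by omega⟩) (e ⟨1, by omega⟩) (e ⟨2, by omega⟩) (hmem _).2.2 (hmem _).2.2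
      (hmem _).2.2 (e.strictMono (by simp [Fin.lt_def])) (e.strictMono (by simp [Fin.lt_def]))
      (hmem _).2.1 ?_
    have := (hmem ⟨0, by omega⟩).1
    omega

end Cfsg.Agent.PrimeCycles.Primes
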