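import Cfsg.Agent.Lib.PrimeCycles.Tools

/-! A sharply two-transitive group has no degree `p + 1` divisible by six. -/

set_option autoImplicit false
set_option linter.unusedSectionVars false

namespace Cfsg.Agent.PrimeCycles.Sharp

open Equiv MulAction Cfsg.Agent.PrimeCycles.Tools

variable {β : Type*} [Fintype β] [DecidableEq β]

theorem card_eq_orbit_mul (H : Subgroup (Perm β)) (a : β) :
    Nat.card H = (orbit H a).ncard * Nat.card ↥(H ⊓ stabilizer (Perm β) a) := by
  have h1 : stabilizer H a = (stabilizer (Perm β) a).subgroupOf H := by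
    ext g
    rfl
  have h2 := (stabilizer H a).index_mul_card
  rw [index_stabilizer] at h2
  rw [← h2, h1, ← Subgroup.inf_subgroupOf_left,
    Nat.card_congr (Subgroup.subgroupOfEquivOfLe (inf_le_left : H ⊓ _ ≤ H)).toEquiv]

theorem sharp_false (H : Subgroup (Perm β)) (S : Finset β) {p : ℕ} (hp : p.Prime) (h6 : 6 ∣ p + 1)
    (hS : S.card = p + 1) (hinv : ∀ g ∈ H, ∀ c ∈ S, g c ∈ S) (hcard : Nat.card H = (p + 1) * p)
    (hstab : ∀ c ∈ S, Nat.card ↥(H ⊓ stabilizer (Perm β) c) = p)
    (hfix : ∀ g ∈ H, orderOf g = p → ∀ c ∈ S, ∀ c' ∈ S, g c = c → g c' = c' → c = c') : False := by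
  classical
  have : Fact p.Prime := ⟨hp⟩
  have hp5 : 5 ≤ p := by
    have := hp.two_le
    omega
  set E : Finset (Perm β) := Finset.univ.filter (· ∈ H) with hE
  have hEcard : E.card = (p + 1) * p := by
    rw [← hcard, hE, Nat.card_eq_fintype_card, Fintype.card_subtype]
  set A : β → Finset (Perm β) :=
    fun c => Finset.univ.filter (fun g => g ∈ H ∧ g c = c ∧ g ≠ 1) with hA
  have hordA : ∀ c ∈ S, ∀ g ∈ A c, orderOf g = p := by
    intro c hc g hg
    simp only [hA, Finset.mem_filter, Finset.mem_univ, true_and] at hg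
    have h1 := Subgroup.orderOf_dvd_natCard (H ⊓ stabilizer (Perm β) c) (x := g) ⟨hg.1, hg.2.1⟩
    rw [hstab c hc] at h1
    rcases (Nat.dvd_prime hp).1 h1 with h | h
    · exact absurd (orderOf_eq_one_iff.1 h) hg.2.2
    · exact h
  have hcardA : ∀ c ∈ S, (A c).card = p - 1 := by
    intro c hc
    have h1 : A c = (Finset.univ.filter (fun g => g ∈ H ⊓ stabilizer (Perm β) c)).erase 1 := by
      ext g
      simp only [hA, Finset.mem_erase, Finset.mem_filter, Finset.mem_univ, true_and,
        Subgroup.mem_inf, mem_stabilizer_iff, Perm.smul_def]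
      tauto
    rw [h1, Finset.card_erase_of_mem (by simp [one_mem]), ← hstab c hc, Nat.card_eq_fintype_card,
      Fintype.card_subtype]
  have hdisj : (S : Set β).PairwiseDisjoint A := by
    intro c hc c' hc' hne
    simp only [Function.onFun, Finset.disjoint_left]
    intro g hg hg'
    have ho := hordA c hc g hg
    simp only [hA, Finset.mem_filter, Finset.mem_univ, true_and] at hg hg'
    exact hne (hfix g hg.1 ho c hc c' hc' hg.2.1 hg'.2.1)
  obtain ⟨b, hb⟩ : S.Nonempty := Finset.card_pos.1 (by omega)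
  obtain ⟨x, hx⟩ : (A b).Nonempty := Finset.card_pos.1 (by rw [hcardA b hb]; omega)
  have hxo := hordA b hb x hx
  simp only [hA, Finset.mem_filter, Finset.mem_univ, true_and] at hx
  -- an element of prime order different from `p` gives `p` conjugates under `x`
  have hconj : ∀ r : ℕ, r.Prime → r ∣ p + 1 → ∃ T : Finset (Perm β),
      T.card = p ∧ ∀ g ∈ T, g ∈ H ∧ orderOf g = r := by
    intro r hr hrd
    have : Fact r.Prime := ⟨hr⟩
    obtain ⟨⟨t, htH⟩, hto⟩ := exists_prime_orderOf_dvd_card' (G := H) r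
      (by rw [hcard]; exact dvd_mul_of_dvd_left hrd p)
    rw [Subgroup.orderOf_mk] at hto
    refine ⟨(Finset.range p).image (fun i => x ^ i * t * (x ^ i)⁻¹), ?_, ?_⟩
    · rw [Finset.card_image_of_injOn, Finset.card_range]
      intro i hi j hj heq
      simp only [Finset.coe_range, Set.mem_Iio] at hi hj
      by_contra hne
      -- some non-trivial power of `x` commutes with `t`
      obtain ⟨k, hk0, hkp, hkc⟩ : ∃ k, 0 < k ∧ k < p ∧ x ^ k * t = t * x ^ k := by
        rcases Nat.lt_or_gt_of_ne hne with h | h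
        · refine ⟨j - i, by omega, by omega, ?_⟩
          have hj' : x ^ j = x ^ i * x ^ (j - i) := by rw [← pow_add]; congr 1; omega
          simp only [hj', mul_inv_rev, mul_assoc, mul_right_inj] at heq
          rw [← mul_left_inj (x ^ (j - i))⁻¹, mul_inv_cancel_right, mul_assoc]
          rw [← mul_left_inj (x ^ i)⁻¹, mul_assoc, mul_assoc]
          exact heq.symm
        · refine ⟨i - j, by omega, by omega, ?_⟩
          have hi' : x ^ i = x ^ j * x ^ (i - j) := by rw [← pow_add]; congr 1; omega
          simp only [hi', mul_inv_rev, mul_assoc, mul_right_inj] at heq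
          rw [← mul_left_inj (x ^ (i - j))⁻¹, mul_inv_cancel_right, mul_assoc]
          rw [← mul_left_inj (x ^ j)⁻¹, mul_assoc, mul_assoc]
          exact heq
      have hzo : orderOf (x ^ k) = p := by
        rw [Nat.Coprime.orderOf_pow, hxo]
        rw [hxo]
        exact Nat.coprime_of_lt_prime hk0.ne' hkp hp
      have hzb : (x ^ k) b = b := (stabilizer (Perm β) b).pow_mem (x := x) hx.2.1 k
      have hztb : (x ^ k) (t b) = t b := apply_fixed_of_commute hkc.symm hzb
      have htb : t b = b := hfix _ (H.pow_mem hx.1 k) hzo _ (hinv t htH b hb) b hb hztb hzb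
      have h1 := Subgroup.orderOf_dvd_natCard (H ⊓ stabilizer (Perm β) b) (x := t) ⟨htH, htb⟩
      rw [hstab b hb, hto] at h1
      have h2 := (Nat.prime_dvd_prime_iff_eq hr hp).1 h1
      have h3 : p ∣ 1 := (Nat.dvd_add_right (dvd_refl p)).1 (h2 ▸ hrd)
      exact hp.ne_one (Nat.dvd_one.1 h3)
    · intro g hg
      obtain ⟨i, -, rfl⟩ := Finset.mem_image.1 hg
      refine ⟨mul_mem (mul_mem (H.pow_mem hx.1 i) htH) (inv_mem (H.pow_mem hx.1 i)), ?_⟩
      rw [← hto]
      exact MulEquiv.orderOf_eq (MulAut.conj (x ^ i)) t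
  obtain ⟨T, hT, hT'⟩ := hconj 2 Nat.prime_two (dvd_trans (by norm_num) h6)
  obtain ⟨U, hU, hU'⟩ := hconj 3 Nat.prime_three (dvd_trans (by norm_num) h6)
  have hsub : insert 1 (S.biUnion A ∪ (T ∪ U)) ⊆ E := by
    intro g hg
    simp only [hE, Finset.mem_filter, Finset.mem_univ, true_and]
    rcases Finset.mem_insert.1 hg with rfl | hg
    · exact one_mem H
    rcases Finset.mem_union.1 hg with hg | hg
    · obtain ⟨c, -, hgc⟩ := Finset.mem_biUnion.1 hg
      simp only [hA, Finset.mem_filter] at hgc
      exact hgc.2.1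
    rcases Finset.mem_union.1 hg with hg | hg
    · exact (hT' g hg).1
    · exact (hU' g hg).1
  have hTU : Disjoint T U := by
    rw [Finset.disjoint_left]
    intro g h1 h2
    have := (hT' g h1).2
    rw [(hU' g h2).2] at this
    norm_num at this
  have hATU : Disjoint (S.biUnion A) (T ∪ U) := by
    rw [Finset.disjoint_left]
    intro g h1 h2
    obtain ⟨c, hc, hgc⟩ := Finset.mem_biUnion.1 h1
    have := hordA c hc g hgc
    rcases Finset.mem_union.1 h2 with h | h
    · rw [(hT' g h).2] at this; omega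
    · rw [(hU' g h).2] at this; omega
  have h1mem : (1 : Perm β) ∉ S.biUnion A ∪ (T ∪ U) := by
    intro h
    rcases Finset.mem_union.1 h with h | h
    · obtain ⟨c, -, hgc⟩ := Finset.mem_biUnion.1 h
      simp [hA] at hgc
    rcases Finset.mem_union.1 h with h | h
    · have := (hT' 1 h).2; simp at this
    · have := (hU' 1 h).2; simp at this
  have hle := Finset.card_le_card hsub
  rw [Finset.card_insert_of_notMem h1mem, Finset.card_union_of_disjoint hATU,
    Finset.card_union_of_disjoint hTU, Finset.card_biUnion hdisj,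
    Finset.sum_congr rfl hcardA, Finset.sum_const, hS, hT, hU, hEcard, smul_eq_mul] at hle
  obtain ⟨k, rfl⟩ : ∃ k, p = k + 1 := ⟨p - 1, by omega⟩
  simp only [Nat.add_sub_cancel] at hle
  nlinarith

end Cfsg.Agent.PrimeCycles.Sharp
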