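import Mathlib

/-! Groups generated by elements of large prime order: transitivity, primitivity, small index. -/

set_option autoImplicit false
set_option linter.unusedSectionVars false

namespace Cfsg.Agent.PrimeCycles.Tools

open Equiv MulAction
open scoped Pointwise

variable {β : Type*} [Fintype β] [DecidableEq β]

theorem inv_apply' (σ : Perm β) (a : β) : σ⁻¹ (σ a) = a := σ.symm_apply_apply a

/-- A moved point of an element of prime order has an orbit of that size. -/
theorem ncard_orbit_zpowers {x : Perm β} {p : ℕ} (hp : p.Prime) (hx : orderOf x = p) {a : β}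
    (ha : x a ≠ a) : (orbit (Subgroup.zpowers x) a).ncard = p := by
  have h1 := Subgroup.index_dvd_card (stabilizer (Subgroup.zpowers x) a)
  rw [index_stabilizer, Nat.card_zpowers, hx] at h1
  rcases (Nat.dvd_prime hp).1 h1 with h | h
  · exfalso
    obtain ⟨b, hb⟩ := Set.ncard_eq_one.1 h
    have h2 : x a ∈ orbit (Subgroup.zpowers x) a := ⟨⟨x, Subgroup.mem_zpowers x⟩, rfl⟩
    have h3 : a ∈ orbit (Subgroup.zpowers x) a := mem_orbit_self a
    rw [hb, Set.mem_singleton_iff] at h2 h3
    exact ha (h2.trans h3.symm)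
  · exact h

theorem isPretransitive_of_pair {G : Subgroup (Perm β)} {x y : Perm β} (hxG : x ∈ G) (hyG : y ∈ G)
    {p q : ℕ} (hp : p.Prime) (hx : orderOf x = p) (hy : y.IsCycle) (hyq : y.support.card = q)
    (hcov : ∀ a, x a ≠ a ∨ y a ≠ a) (hlt : Fintype.card β < p + q) : IsPretransitive G β := by
  obtain ⟨c, hc, -⟩ := id hy
  have key : ∀ a, ∃ g ∈ G, g c = a := by
    intro a
    by_cases hya : y a = a
    · have hxa : x a ≠ a := (hcov a).resolve_right (not_not.2 hya)
      obtain ⟨b, hb, hyb⟩ : ∃ b ∈ orbit (Subgroup.zpowers x) a, y b ≠ b := by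
        by_contra hcon
        push Not at hcon
        have h1 : orbit (Subgroup.zpowers x) a ⊆ ((y.support : Set β))ᶜ := fun b hb => by
          simpa using hcon b hb
        have h2 := Set.ncard_le_ncard h1
        rw [ncard_orbit_zpowers hp hx hxa, Set.ncard_compl, Set.ncard_coe_finset, hyq,
          Nat.card_eq_fintype_card] at h2
        have := hp.two_le
        omega
      obtain ⟨⟨z, hz⟩, rfl⟩ := hb
      obtain ⟨i, hi⟩ := hy.exists_zpow_eq hc hyb
      refine ⟨z⁻¹ * y ^ i, mul_mem (inv_mem (Subgroup.zpowers_le.2 hxG hz)) (G.zpow_mem hyG i), ?_⟩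
      rw [Perm.mul_apply, hi]
      exact inv_apply' z a
    · obtain ⟨i, hi⟩ := hy.exists_zpow_eq hc hya
      exact ⟨y ^ i, G.zpow_mem hyG i, hi⟩
  rw [isPretransitive_iff_base c]
  intro a
  obtain ⟨g, hg, hga⟩ := key a
  exact ⟨⟨g, hg⟩, hga⟩

theorem isPreprimitive_of_long_cycle {G : Subgroup (Perm β)} [IsPretransitive G β] {y : Perm β}
    (hyG : y ∈ G) {q : ℕ} (hq : q.Prime) (hy : y.IsCycle) (hyq : y.support.card = q)
    (hlt : Fintype.card β < 2 * q) : IsPreprimitive G β := by
  obtain ⟨c, hc, -⟩ := id hy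
  refine IsPreprimitive.of_isTrivialBlock_base c fun {B} hcB hB => ?_
  rw [IsTrivialBlock, or_iff_not_imp_left]
  intro hns
  rw [Set.not_subsingleton_iff] at hns
  have hne : B.Nonempty := ⟨c, hcB⟩
  have h2 : 2 ≤ B.ncard := (Set.one_lt_ncard_iff_nontrivial).2 hns
  have hord : orderOf (⟨y, hyG⟩ : G) = q := by rw [Subgroup.orderOf_mk, hy.orderOf, hyq]
  have hstab : (⟨y, hyG⟩ : G) • B = B := by
    have h1 := Subgroup.index_dvd_card (stabilizer (Subgroup.zpowers (⟨y, hyG⟩ : G)) B)
    rw [index_stabilizer, Nat.card_zpowers, hord] at h1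
    rcases (Nat.dvd_prime hq).1 h1 with h | h
    · obtain ⟨D, hD⟩ := Set.ncard_eq_one.1 h
      have h2 : (⟨y, hyG⟩ : G) • B ∈ orbit (Subgroup.zpowers (⟨y, hyG⟩ : G)) B :=
        ⟨⟨_, Subgroup.mem_zpowers _⟩, rfl⟩
      have h3 : B ∈ orbit (Subgroup.zpowers (⟨y, hyG⟩ : G)) B := mem_orbit_self B
      rw [hD, Set.mem_singleton_iff] at h2 h3
      exact h2.trans h3.symm
    · exfalso
      have h3 : orbit (Subgroup.zpowers (⟨y, hyG⟩ : G)) B ⊆ orbit G B := by
        rintro _ ⟨z, rfl⟩
        exact ⟨(z : G), rfl⟩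
      have h4 := Set.ncard_le_ncard h3
      have h5 := hB.ncard_block_mul_ncard_orbit_eq hne
      rw [Nat.card_eq_fintype_card] at h5
      rw [h] at h4
      have := Nat.mul_le_mul h2 h4
      omega
  have hsub : (y.support : Set β) ⊆ B := by
    intro a ha
    obtain ⟨i, hi⟩ := hy.exists_zpow_eq hc (Perm.mem_support.1 ha)
    have h1 : (⟨y, hyG⟩ : G) ^ i • B = B :=
      mem_stabilizer_iff.1 ((stabilizer G B).zpow_mem (mem_stabilizer_iff.2 hstab) i)
    rw [← h1, ← hi]
    exact Set.smul_mem_smul_set (a := (⟨y, hyG⟩ : G) ^ i) hcB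
  apply hB.eq_univ_of_card_lt
  have h1 := Set.ncard_le_ncard hsub
  rw [Set.ncard_coe_finset, hyq] at h1
  rw [Nat.card_eq_fintype_card]
  omega

theorem alt_dvd_factorial {K : Subgroup (Perm β)} (hK : K ≤ alternatingGroup β)
    (h5 : 5 ≤ Fintype.card β) (hne : K ≠ alternatingGroup β) :
    Nat.card (alternatingGroup β) ∣ (K.subgroupOf (alternatingGroup β)).index.factorial := by
  set L := K.subgroupOf (alternatingGroup β) with hL
  have hs : IsSimpleGroup (alternatingGroup β) :=
    alternatingGroup.isSimpleGroup (by rw [Nat.card_eq_fintype_card]; exact h5)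
  have hLtop : L ≠ ⊤ := fun h => hne (le_antisymm hK (Subgroup.subgroupOf_eq_top.1 h))
  rcases hs.eq_bot_or_eq_top_of_normal _ L.normalCore_normal with h | h
  · rw [Subgroup.normalCore_eq_ker] at h
    have hd := Subgroup.card_dvd_of_injective _ ((MonoidHom.ker_eq_bot_iff _).1 h)
    rwa [Nat.card_perm, ← Subgroup.index] at hd
  · exact absurd (top_le_iff.1 (h ▸ L.normalCore_le)) hLtop

theorem card_mul_index {K : Subgroup (Perm β)} (hK : K ≤ alternatingGroup β) :
    Nat.card K * (K.subgroupOf (alternatingGroup β)).index = Nat.card (alternatingGroup β) := by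
  rw [← Nat.card_congr (Subgroup.subgroupOfEquivOfLe hK).toEquiv]
  exact Subgroup.card_mul_index _

/-- An element commuting with a `p`-cycle preserves its fixed points. -/
theorem apply_fixed_of_commute {x z : Perm β} (h : z * x = x * z) {a : β} (ha : x a = a) :
    x (z a) = z a := by
  rw [← Perm.mul_apply, ← h, Perm.mul_apply, ha]

/-- A normal subgroup of prime order is centralised by elements of larger prime order. -/
theorem commute_of_normalizes {G : Type*} [Group G] [Finite G] {x y : G} {p q : ℕ}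
    (hp : p.Prime) (hq : q.Prime) (hx : orderOf x = p) (hy : orderOf y = q)
    (hpq : ¬ q ∣ p - 1) (h : y * x * y⁻¹ ∈ Subgroup.zpowers x) : y * x = x * y := by
  have : Fact p.Prime := ⟨hp⟩
  obtain ⟨i, hi⟩ := Subgroup.mem_zpowers_iff.1 h
  have hkey : ∀ n : ℕ, y ^ n * x * (y ^ n)⁻¹ = x ^ (i ^ n) := by
    intro n
    induction n with
    | zero => simp
    | succ n ih =>
      have h1 : y ^ (n + 1) * x * (y ^ (n + 1))⁻¹ = y * (y ^ n * x * (y ^ n)⁻¹) * y⁻¹ := by
        rw [pow_succ']; group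
      rw [h1, ih, ← conj_zpow, ← hi, ← zpow_mul, pow_succ']
  have h1 := hkey q
  rw [← hy, pow_orderOf_eq_one, hy] at h1
  simp only [one_mul, inv_one, mul_one] at h1
  have h2 : (p : ℤ) ∣ i ^ q - 1 := by
    rw [← hx, orderOf_dvd_iff_zpow_eq_one, zpow_sub, ← h1, zpow_one, mul_inv_cancel]
  have h3 : ((i : ZMod p)) ^ q = 1 := by
    have := (ZMod.intCast_zmod_eq_zero_iff_dvd _ p).2 h2
    push_cast at this
    exact sub_eq_zero.1 this
  have hi0 : (i : ZMod p) ≠ 0 := by
    intro h0
    rw [h0, zero_pow hq.ne_zero] at h3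
    exact zero_ne_one h3
  have h4 : orderOf (Units.mk0 (i : ZMod p) hi0) ∣ q := orderOf_dvd_of_pow_eq_one (Units.ext h3)
  have h5 : orderOf (Units.mk0 (i : ZMod p) hi0) ∣ p - 1 :=
    ZMod.card_units p ▸ orderOf_dvd_card
  rcases (Nat.dvd_prime hq).1 h4 with h6 | h6
  · have h7 : (i : ZMod p) = 1 := congrArg Units.val (orderOf_eq_one_iff.1 h6)
    have h8 : (p : ℤ) ∣ i - 1 :=
      (ZMod.intCast_zmod_eq_zero_iff_dvd _ p).1 (by push_cast; rw [h7, sub_self])
    rw [← hx, orderOf_dvd_iff_zpow_eq_one, zpow_sub, zpow_one, mul_inv_eq_one] at h8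
    rw [h8] at hi
    rw [← mul_inv_eq_iff_eq_mul]
    exact hi.symm
  · exact absurd (h6 ▸ h5) hpq

end Cfsg.Agent.PrimeCycles.Tools
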