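import Cfsg.Agent.Lib.PrimeCycles.Sharp

/-! A `p`-cycle and a `(p + 2)`-cycle on `p + 2` points: two-transitivity and the order formula. -/

set_option autoImplicit false
set_option linter.unusedSectionVars false

namespace Cfsg.Agent.PrimeCycles.Twin

open Equiv MulAction Cfsg.Agent.PrimeCycles.Tools Cfsg.Agent.PrimeCycles.Sharp

variable {β : Type*} [Fintype β] [DecidableEq β]

/-- An element of prime order has support `p` (a cycle) or `2 p` if there are fewer than `3 p`
points. -/
theorem cycle_or_double {x : Perm β} {p : ℕ} (hp : p.Prime) (hx : orderOf x = p)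
    (h3 : Fintype.card β < 3 * p) :
    (x.IsCycle ∧ x.support.card = p) ∨ x.support.card = 2 * p := by
  obtain ⟨n, hn⟩ := Perm.cycleType_prime_order (σ := x) (hx ▸ hp)
  have h1 : x.support.card = (n + 1) * p := by
    rw [← Perm.sum_cycleType, hn, Multiset.sum_replicate, hx, smul_eq_mul]
  have h2 : x.support.card ≤ Fintype.card β := Finset.card_le_univ _
  have h4 : n + 1 < 3 := by
    refine Nat.lt_of_mul_lt_mul_right (a := p) ?_
    omega
  rcases n with _ | _ | n
  · refine Or.inl ⟨?_, by simpa using h1⟩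
    apply Perm.isCycle_of_prime_order (hx ▸ hp)
    rw [h1, hx]
    have := hp.pos
    omega
  · exact Or.inr h1
  · omega

theorem exists_pair {G : Subgroup (Perm β)} {x y : Perm β} (hxG : x ∈ G) (hyG : y ∈ G) {p q : ℕ}
    (hp : p.Prime) (hq : q.Prime) (hx : x.IsCycle) (hxp : x.support.card = p) (hy : y.IsCycle)
    (hyq : y.support.card = q) (hqp : q = p + 2) (hcard : Fintype.card β = q)
    (h6 : 6 ∣ p + 1) :
    ∃ a b, a ≠ b ∧ x a = a ∧ x b = b ∧ (∀ u v, u ≠ v → ∃ g ∈ G, g a = u ∧ g b = v) ∧
      Nat.card G = q * (p + 1) *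
        Nat.card ↥(G ⊓ stabilizer (Perm β) a ⊓ stabilizer (Perm β) b) ∧
      Nat.card ↥(G ⊓ stabilizer (Perm β) a ⊓ stabilizer (Perm β) b) ≠ p := by
  classical
  have hcompl : x.supportᶜ.card = 2 := by rw [Finset.card_compl, hxp]; omega
  obtain ⟨a, b, hab, hxab⟩ := Finset.card_eq_two.1 hcompl
  have hfix : ∀ c, x c = c ↔ c = a ∨ c = b := fun c => by
    rw [← Perm.notMem_support, ← Finset.mem_compl, hxab]
    simp
  have hxa : x a = a := (hfix a).2 (Or.inl rfl)
  have hxb : x b = b := (hfix b).2 (Or.inr rfl)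
  have hymov : ∀ c, y c ≠ c := fun c => by
    rw [← Perm.mem_support, Finset.eq_univ_of_card y.support (by rw [hyq, hcard])]
    exact Finset.mem_univ c
  have htrans : ∀ u, ∃ g ∈ G, g a = u := fun u => by
    obtain ⟨i, hi⟩ := hy.exists_zpow_eq (hymov a) (hymov u)
    exact ⟨y ^ i, G.zpow_mem hyG i, hi⟩
  -- a conjugate of `x` fixing `a` and moving `b`
  obtain ⟨k, hk⟩ := hy.exists_zpow_eq (hymov b) (hymov a)
  set w := y ^ k with hw
  have hwa : w a ≠ b := by
    intro hwab
    have h1 : (w * w) a = a := by rw [Perm.mul_apply, hwab, hk]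
    have h2 : w * w = 1 := by
      have h3 : (w * w) a = a → w * w = 1 := by
        intro _
        by_contra hne
        have h4 : orderOf (w * w) = q := by
          have h5 : orderOf (w * w) ∣ q := by
            rw [← hyq, ← hy.orderOf, hw, ← zpow_add]
            exact orderOf_dvd_of_mem_zpowers (Subgroup.zpow_mem_zpowers y _)
          exact ((Nat.dvd_prime hq).1 h5).resolve_left (fun h => hne (orderOf_eq_one_iff.1 h))
        have h6 := ncard_orbit_zpowers hq h4 (a := a)
        rcases cycle_or_double hq h4 (by rw [hcard]; have := hq.pos; omega) with ⟨-, h7⟩ | h7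
        · have h8 := Finset.eq_univ_of_card (w * w).support (by rw [h7, hcard])
          exact (Perm.mem_support.1 (h8 ▸ Finset.mem_univ a)) h1
        · have := Finset.card_le_univ (w * w).support
          have := hq.pos
          omega
      exact h3 h1
    have h3 : orderOf w ∣ 2 := orderOf_dvd_of_pow_eq_one (by rw [pow_two]; exact h2)
    have h4 : orderOf w ∣ q := by
      rw [← hyq, ← hy.orderOf, hw]
      exact orderOf_dvd_of_mem_zpowers (Subgroup.zpow_mem_zpowers y _)
    have h5 : orderOf w ∣ Nat.gcd 2 q := Nat.dvd_gcd h3 h4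
    rw [(Nat.coprime_primes Nat.prime_two hq).2 (by have := hp.two_le; omega), Nat.dvd_one,
      orderOf_eq_one_iff] at h5
    rw [h5, Perm.one_apply] at hwab
    exact hab hwab
  set x' := w * x * w⁻¹ with hx'
  have hx'G : x' ∈ G :=
    mul_mem (mul_mem (G.zpow_mem hyG k) hxG) (inv_mem (G.zpow_mem hyG k))
  have hx'a : x' a = a := by
    have : w⁻¹ a = b := by rw [← hk]; exact inv_apply' w b
    rw [hx', Perm.mul_apply, Perm.mul_apply, this, hxb, hk]
  have hx'b : x' b ≠ b := by
    intro h
    have h1 : x (w⁻¹ b) = w⁻¹ b := by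
      rw [hx', Perm.mul_apply, Perm.mul_apply] at h
      exact (Perm.eq_inv_iff_eq).2 h
    rcases (hfix _).1 h1 with h2 | h2
    · exact hwa (by rw [← h2]; exact w.apply_symm_apply b)
    · have h3 : w b = b := by conv_lhs => rw [← h2]; exact w.apply_symm_apply b
      exact hab (hk.symm.trans h3)
  set b0 := x' b with hb0
  have hb0a : b0 ≠ a := fun h => hab (x'.injective (by rw [hx'a, ← h]))
  have hGa : ∀ c, c ≠ a → ∃ g ∈ G ⊓ stabilizer (Perm β) a, g b = c := by
    intro c hca
    by_cases hcb : c = b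
    · exact ⟨1, one_mem _, hcb.symm⟩
    have h1 : x b0 ≠ b0 := fun h => ((hfix b0).1 h).elim hb0a hx'b
    have h2 : x c ≠ c := fun h => ((hfix c).1 h).elim hca hcb
    obtain ⟨i, hi⟩ := hx.exists_zpow_eq h1 h2
    refine ⟨x ^ i * x', ⟨mul_mem (G.zpow_mem hxG i) hx'G, ?_⟩, ?_⟩
    · exact mul_mem ((stabilizer (Perm β) a).zpow_mem (x := x) hxa i) hx'a
    · rw [Perm.mul_apply, ← hb0, hi]
  have horbG : (orbit G a).ncard = q := by
    have : orbit G a = Set.univ := Set.eq_univ_of_forall fun u => by
      obtain ⟨g, hg, hgu⟩ := htrans u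
      exact ⟨⟨g, hg⟩, hgu⟩
    rw [this, Set.ncard_univ, Nat.card_eq_fintype_card, hcard]
  have horbGa : ∀ c, c ≠ a → (orbit ↥(G ⊓ stabilizer (Perm β) a) c).ncard = p + 1 := by
    intro c hc
    have : orbit ↥(G ⊓ stabilizer (Perm β) a) c = {a}ᶜ := by
      ext d
      constructor
      · rintro ⟨⟨g, hg⟩, rfl⟩ h
        have h1 : g c = g a := by
          rw [show g a = a from hg.2]
          exact h
        exact hc (g.injective h1)
      · intro hd
        obtain ⟨g, hg, hgc⟩ := hGa c hc
        obtain ⟨g', hg', hgd⟩ := hGa d hd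
        refine ⟨⟨g' * g⁻¹, mul_mem hg' (inv_mem hg)⟩, ?_⟩
        change (g' * g⁻¹) c = d
        rw [Perm.mul_apply, ← hgc, inv_apply', hgd]
    rw [this, Set.ncard_compl, Set.ncard_singleton, Nat.card_eq_fintype_card, hcard]
    omega
  have hcardGa : Nat.card ↥(G ⊓ stabilizer (Perm β) a) = (p + 1) *
      Nat.card ↥(G ⊓ stabilizer (Perm β) a ⊓ stabilizer (Perm β) b) := by
    rw [card_eq_orbit_mul (G ⊓ stabilizer (Perm β) a) b, horbGa b (Ne.symm hab)]
  refine ⟨a, b, hab, hxa, hxb, ?_, ?_, ?_⟩
  · intro u v huv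
    obtain ⟨g, hg, hgu⟩ := htrans u
    obtain ⟨g', hg', hgv⟩ := hGa (g⁻¹ v) (by
      intro h
      exact huv (by rw [← hgu, ← h]; exact g.apply_symm_apply v))
    refine ⟨g * g', mul_mem hg hg'.1, ?_, ?_⟩
    · rw [Perm.mul_apply, show g' a = a from hg'.2, hgu]
    · rw [Perm.mul_apply, hgv]
      exact g.apply_symm_apply v
  · rw [card_eq_orbit_mul G a, horbG, hcardGa, mul_assoc]
  · intro hn
    refine sharp_false (G ⊓ stabilizer (Perm β) a) (Finset.univ.erase a) hp h6 ?_ ?_
      (by rw [hcardGa, hn]) ?_ ?_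
    · rw [Finset.card_erase_of_mem (Finset.mem_univ a), Finset.card_univ, hcard]
      omega
    · intro g hg c hc
      simp only [Finset.mem_erase, Finset.mem_univ, and_true] at hc ⊢
      intro h
      exact hc (g.injective (by rw [show g a = a from hg.2]; exact h))
    · intro c hc
      have hca := (Finset.mem_erase.1 hc).1
      have h1 := card_eq_orbit_mul (G ⊓ stabilizer (Perm β) a) c
      rw [horbGa c hca, hcardGa, hn] at h1
      exact (Nat.eq_of_mul_eq_mul_left (by omega) h1).symm
    · intro g hg hgo c hc c' hc' hgc hgc'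
      by_contra hne
      have hca := (Finset.mem_erase.1 hc).1
      have hca' := (Finset.mem_erase.1 hc').1
      have hga : g a = a := hg.2
      have h1 : g.support ⊆ ({a, c, c'} : Finset β)ᶜ := by
        intro d hd
        rw [Finset.mem_compl, Finset.mem_insert, Finset.mem_insert, Finset.mem_singleton]
        rintro (rfl | rfl | rfl) <;> exact (Perm.mem_support.1 hd) ‹_›
      have h2 : ({a, c, c'} : Finset β).card = 3 :=
        Finset.card_eq_three.2 ⟨a, c, c', Ne.symm hca, Ne.symm hca', hne, rfl⟩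
      have h3 := Finset.card_le_card h1
      rw [Finset.card_compl, h2, hcard] at h3
      have := hp.two_le
      rcases cycle_or_double hp hgo (by rw [hcard]; omega) with ⟨-, h4⟩ | h4 <;> omega

end Cfsg.Agent.PrimeCycles.Twin
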