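import Cfsg.Agent.Lib.PrimeCycles.Twin
import Cfsg.Agent.S0713

/-! Degree seven with primes 5, 7 and degree thirteen with primes 11, 13. -/

set_option autoImplicit false
set_option linter.unusedSectionVars false

namespace Cfsg.Agent.PrimeCycles.Twin11

open Equiv MulAction Cfsg.Agent.PrimeCycles.Tools Cfsg.Agent.PrimeCycles.Twin
open scoped Pointwise

variable {β : Type*} [Fintype β] [DecidableEq β]

theorem seven {G : Subgroup (Perm β)} (hG : G ≤ alternatingGroup β) {x y : Perm β} (hxG : x ∈ G)
    (hyG : y ∈ G) (hx : x.IsCycle) (hxp : x.support.card = 5) (hy : y.IsCycle)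
    (hyq : y.support.card = 7) (hcard : Fintype.card β = 7) : G = alternatingGroup β := by
  by_contra hne
  obtain ⟨a, b, -, hxa, hxb, -, hn, hn5⟩ := exists_pair hxG hyG (by norm_num : Nat.Prime 5)
    (by norm_num : Nat.Prime 7) hx hxp hy hyq rfl hcard (by norm_num)
  set n := Nat.card ↥(G ⊓ stabilizer (Perm β) a ⊓ stabilizer (Perm β) b) with hndef
  have h5 : 5 ∣ n := by
    rw [← hxp, ← hx.orderOf]
    exact Subgroup.orderOf_dvd_natCard _ (x := x) ⟨⟨hxG, hxa⟩, hxb⟩
  have : Nontrivial β := Fintype.one_lt_card_iff_nontrivial.1 (by omega)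
  have hA : Nat.card (alternatingGroup β) = 2520 := by
    rw [nat_card_alternatingGroup, Nat.card_eq_fintype_card, hcard]
    decide
  have h1 := card_mul_index hG
  have h2 := alt_dvd_factorial hG (by omega) hne
  rw [hn, hA] at h1
  rw [hA] at h2
  set k := (G.subgroupOf (alternatingGroup β)).index with hk
  obtain ⟨r, hr⟩ := h5
  have hr0 : 1 ≤ r := by
    rcases Nat.eq_zero_or_pos r with h | h
    · simp [h] at hr; simp [hr] at h1
    · exact h
  have hr2 : r ≠ 1 := fun h => hn5 (by rw [hr, h])
  rw [hr] at h1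
  have hk6 : k ≤ 6 := by
    have h1' : 210 * (r * k) = 2520 := by rw [← h1]; ring
    have h2r : 2 * k ≤ r * k := Nat.mul_le_mul_right k (by omega)
    omega
  have h3 : Nat.factorial k ≤ Nat.factorial 6 := Nat.factorial_le hk6
  have h4 := Nat.le_of_dvd (Nat.factorial_pos k) h2
  norm_num [Nat.factorial] at h3
  omega

theorem commute_ne_one_false {x : Perm β} (hx : x.IsCycle) (c0 : β) (hc0 : x c0 ≠ c0)
    {g : Perm β} (hg : g * x = x * g) (hgc : g c0 = c0) {d : β} (hd : x d ≠ d) : g d = d := by
  obtain ⟨i, rfl⟩ := hx.exists_zpow_eq hc0 hd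
  have h1 : g * x ^ i = x ^ i * g := (Commute.zpow_right (show Commute g x from hg) i).eq
  rw [← Perm.mul_apply, h1, Perm.mul_apply, hgc]

/-- An element inverting an `11`-cycle and fixing the other points is odd. -/
theorem not_inverts {x g : Perm β} (hx : x.IsCycle) (hxp : x.support.card = 11)
    (hfix : ∀ d, x d = d → g d = d) (hgx : g * x * g⁻¹ = x⁻¹) : Perm.sign g = -1 := by
  obtain ⟨c0, hc0, -⟩ := id hx
  have hgc0 : x (g c0) ≠ g c0 := by
    intro h
    have h1 : g (g c0) = g c0 := hfix _ h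
    exact hc0 (by rw [g.injective h1] at h; exact h)
  obtain ⟨j, hj⟩ := hx.exists_zpow_eq hgc0 hc0
  set h := x ^ j * g with hh
  have hsign : Perm.sign h = Perm.sign g := by
    rw [hh, map_mul, map_zpow, hx.sign, hxp, show (-(-1 : ℤˣ) ^ 11) = 1 by decide, one_zpow,
      one_mul]
  have hhc : h c0 = c0 := by rw [hh, Perm.mul_apply, hj]
  have hhx : h * x * h⁻¹ = x⁻¹ := by
    rw [hh, show x ^ j * g * x * (x ^ j * g)⁻¹ = x ^ j * (g * x * g⁻¹) * (x ^ j)⁻¹ by group, hgx]
    group
  have hhfix : ∀ d, x d = d → h d = d := fun d hd => by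
    rw [hh, Perm.mul_apply, hfix d hd]
    exact (stabilizer (Perm β) d).zpow_mem (x := x) hd j
  have hpow : ∀ k : ℤ, h ((x ^ k) c0) = (x ^ (-k)) c0 := fun k => by
    have h1 : h * x ^ k = x ^ (-k) * h := by
      have := conj_zpow (a := h) (b := x) (i := k)
      rw [hhx, inv_zpow, ← zpow_neg] at this
      rw [this]
      group
    rw [← Perm.mul_apply, h1, Perm.mul_apply, hhc]
  have hsq : h * h = 1 := by
    ext d
    rw [Perm.mul_apply, Perm.one_apply]
    by_cases hd : x d = d
    · rw [hhfix d hd, hhfix d hd]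
    · obtain ⟨k, rfl⟩ := hx.exists_zpow_eq hc0 hd
      rw [hpow, hpow, neg_neg]
  have hsupp : h.support = x.support.erase c0 := by
    ext d
    rw [Perm.mem_support, Finset.mem_erase, Perm.mem_support]
    constructor
    · intro hd
      exact ⟨fun e => hd (e ▸ hhc), fun e => hd (hhfix d e)⟩
    · rintro ⟨hne, hd⟩ he
      obtain ⟨k, rfl⟩ := hx.exists_zpow_eq hc0 hd
      rw [hpow] at he
      have h1 : (x ^ (2 * k)) c0 = c0 := by
        have := congrArg (x ^ k) he
        rw [← Perm.mul_apply, ← Perm.mul_apply, ← zpow_add, ← zpow_add] at this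
        simpa [two_mul] using this.symm
      have h2 : x ^ (2 * k) = 1 := by
        ext e
        rw [Perm.one_apply]
        by_cases he' : x e = e
        · exact (stabilizer (Perm β) e).zpow_mem (x := x) he' _
        · exact commute_ne_one_false hx c0 hc0 ((Commute.refl x).zpow_left _).eq h1 he'
      have h3 : (11 : ℤ) ∣ 2 * k := by
        rw [← orderOf_dvd_iff_zpow_eq_one, hx.orderOf, hxp] at h2
        exact_mod_cast h2
      have h4 : (11 : ℤ) ∣ k := by omega
      have h5 : x ^ k = 1 := by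
        rw [← orderOf_dvd_iff_zpow_eq_one, hx.orderOf, hxp]
        exact_mod_cast h4
      exact hne (by rw [h5, Perm.one_apply])
  have hcard : h.support.card = 10 := by
    rw [hsupp, Finset.card_erase_of_mem (Perm.mem_support.2 hc0), hxp]
  have hord : orderOf h = 2 := by
    apply orderOf_eq_prime (by rw [pow_two, hsq])
    intro h1
    rw [h1, Perm.support_one, Finset.card_empty] at hcard
    omega
  obtain ⟨n, hn⟩ := Perm.cycleType_prime_order (σ := h) (hord ▸ Nat.prime_two)
  have hs := Perm.sum_cycleType h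
  rw [hn, Multiset.sum_replicate, hord, hcard, smul_eq_mul] at hs
  have hn5 : n + 1 = 5 := by omega
  rw [← hsign, Perm.sign_of_cycleType, hn, Multiset.sum_replicate, Multiset.card_replicate, hord,
    hn5]
  decide

theorem thirteen {G : Subgroup (Perm β)} (hG : G ≤ alternatingGroup β) (hprim : IsPreprimitive G β)
    {x y : Perm β} (hxG : x ∈ G) (hyG : y ∈ G) (hx : x.IsCycle) (hxp : x.support.card = 11)
    (hy : y.IsCycle) (hyq : y.support.card = 13) (hcard : Fintype.card β = 13) :
    alternatingGroup β ≤ G := by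
  classical
  by_contra hne
  have : Fact (Nat.Prime 11) := ⟨by norm_num⟩
  have : Fact (Nat.Prime 5) := ⟨by norm_num⟩
  have hjordan : ∀ r : ℕ, r.Prime → r + 3 ≤ 13 → ∀ g ∈ G, g.IsCycle → g.support.card = r → False :=
    fun r hr hr3 g hg hgc hgr =>
      hne (Cfsg.Agent.S0713.result G hprim hr (by omega) (by omega) hgc hgr hg)
  obtain ⟨a, b, hab, hxa, hxb, h2t, -, hn11⟩ := exists_pair hxG hyG (by norm_num : Nat.Prime 11)
    (by norm_num : Nat.Prime 13) hx hxp hy hyq rfl hcard (by norm_num)
  set K := G ⊓ stabilizer (Perm β) a ⊓ stabilizer (Perm β) b with hK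
  have hKG : K ≤ G := inf_le_left.trans inf_le_left
  have hKa : ∀ g ∈ K, g a = a := fun g hg => hg.1.2
  have hKb : ∀ g ∈ K, g b = b := fun g hg => hg.2
  have hfix : ∀ d, x d = d ↔ d = a ∨ d = b := by
    have hcompl : x.supportᶜ = {a, b} := by
      refine (Finset.eq_of_subset_of_card_le ?_ ?_).symm
      · intro d hd
        rw [Finset.mem_compl, Perm.mem_support, not_not]
        simp only [Finset.mem_insert, Finset.mem_singleton] at hd
        rcases hd with rfl | rfl <;> assumption
      · rw [Finset.card_pair hab, Finset.card_compl, hxp, hcard]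
    intro d
    rw [← Perm.notMem_support, ← Finset.mem_compl, hcompl]
    simp
  have hn13 : Nat.card K ∣ Nat.factorial 13 := by
    rw [← hcard, ← Nat.card_eq_fintype_card, ← Nat.card_perm]
    exact K.card_subgroup_dvd_card
  -- elements of order five have two cycles
  have hz10 : ∀ z ∈ K, orderOf z = 5 → z.support.card = 10 := fun z hz hzo => by
    rcases cycle_or_double (by norm_num) hzo (by omega) with ⟨h1, h2⟩ | h1
    · exact absurd h2 fun h2 => hjordan 5 (by norm_num) (by norm_num) z (hKG hz) h1 h2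
    · exact h1
  have h25 : ¬ 5 ^ 2 ∣ Nat.card K := by
    intro h
    obtain ⟨P, hP⟩ := Sylow.exists_subgroup_card_pow_prime 5 h
    have hcomm : IsMulCommutative P := IsPGroup.isMulCommutative_of_card_eq_prime_sq hP
    set P' : Subgroup (Perm β) := P.map K.subtype with hP'
    have hP'c : Nat.card P' = 25 := by
      rw [hP', Subgroup.card_map_of_injective K.subtype_injective, hP]; norm_num
    have hP'K : P' ≤ K := Subgroup.map_subtype_le P
    obtain ⟨e, g, hg, hge⟩ : ∃ e, ∃ g ∈ P', g e ≠ e := by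
      by_contra hcon
      push Not at hcon
      have : P' = ⊥ := (Subgroup.eq_bot_iff_forall _).2 fun g hg => Perm.ext fun e => hcon e g hg
      rw [this, Subgroup.card_bot] at hP'c
      omega
    have h1 := Sharp.card_eq_orbit_mul P' e
    rw [hP'c] at h1
    have hle : (orbit P' e).ncard ≤ 13 := by
      have := Set.ncard_le_card (orbit P' e)
      rwa [Nat.card_eq_fintype_card, hcard] at this
    have hne1 : (orbit P' e).ncard ≠ 1 := by
      intro h1'
      obtain ⟨o, ho⟩ := Set.ncard_eq_one.1 h1'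
      have h2 : g e ∈ orbit P' e := ⟨⟨g, hg⟩, rfl⟩
      have h3 : e ∈ orbit P' e := mem_orbit_self e
      rw [ho, Set.mem_singleton_iff] at h2 h3
      exact hge (h2.trans h3.symm)
    have horb : (orbit P' e).ncard = 5 := by
      have hd : (orbit P' e).ncard ∣ 5 ^ 2 := ⟨_, h1⟩
      obtain ⟨i, hi, hie⟩ := (Nat.dvd_prime_pow (by norm_num)).1 hd
      interval_cases i <;> omega
    obtain ⟨⟨z, hz⟩, hzo⟩ := exists_prime_orderOf_dvd_card'
      (G := ↥(P' ⊓ stabilizer (Perm β) e)) 5 (by rw [horb] at h1; exact ⟨1, by omega⟩)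
    rw [Subgroup.orderOf_mk] at hzo
    have hsub : z.support ⊆ (insert a (insert b (orbit P' e).toFinset))ᶜ := by
      intro d hd
      rw [Finset.mem_compl, Finset.mem_insert, Finset.mem_insert, Set.mem_toFinset]
      rintro (rfl | rfl | ⟨⟨u, hu⟩, rfl⟩)
      · exact Perm.mem_support.1 hd (hKa z (hP'K hz.1))
      · exact Perm.mem_support.1 hd (hKb z (hP'K hz.1))
      · obtain ⟨u0, hu0, hu0e⟩ := hu
        obtain ⟨z0, hz0, hz0e⟩ := hz.1
        have hc : z0 * u0 = u0 * z0 := by
          exact congrArg Subtype.val (hcomm.is_comm.comm (⟨z0, hz0⟩ : P) ⟨u0, hu0⟩)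
        have hc' : z * u = u * z := by
          rw [← hz0e, ← hu0e, ← map_mul, hc, map_mul]
        refine Perm.mem_support.1 hd ?_
        change z (u e) = u e
        rw [← Perm.mul_apply, hc', Perm.mul_apply, show z e = e from hz.2]
    have h2 := Finset.card_le_card hsub
    have hnota : a ∉ insert b (orbit P' e).toFinset := by
      rw [Finset.mem_insert, Set.mem_toFinset]
      rintro (h | ⟨⟨u, hu⟩, huh⟩)
      · exact hab h
      · have : e = a := u.injective (by rw [hKa u (hP'K hu)]; exact huh)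
        exact hge (this ▸ hKa g (hP'K hg))
    have hnotb : b ∉ (orbit P' e).toFinset := by
      rw [Set.mem_toFinset]
      rintro ⟨⟨u, hu⟩, huh⟩
      have : e = b := u.injective (by rw [hKb u (hP'K hu)]; exact huh)
      exact hge (this ▸ hKb g (hP'K hg))
    rw [Finset.card_compl, Finset.card_insert_of_notMem hnota, Finset.card_insert_of_notMem hnotb,
      ← Set.ncard_eq_toFinset_card', horb, hcard, hz10 z (hP'K hz.1) hzo] at h2
    omega
  have h5 : ¬ 5 ∣ Nat.card K := by
    intro h
    obtain ⟨⟨z, hzK⟩, hzo'⟩ := exists_prime_orderOf_dvd_card' (G := K) 5 h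
    have hzo : orderOf z = 5 := by rwa [Subgroup.orderOf_mk] at hzo'
    have hsylow : ∀ z' ∈ K, orderOf z' = 5 → ∃ h ∈ K, ∃ i : ℤ, h⁻¹ * z' * h = z ^ i := by
      intro z' hz' hz'o
      have hf : (Nat.card K).factorization 5 = 1 := by
        have h1 := ((Nat.Prime.pow_dvd_iff_le_factorization (by norm_num) Nat.card_pos.ne').1
          (by rwa [pow_one] : 5 ^ 1 ∣ Nat.card K))
        have h2 : ¬ 2 ≤ (Nat.card K).factorization 5 := fun h2 =>
          h25 ((Nat.Prime.pow_dvd_iff_le_factorization (by norm_num) Nat.card_pos.ne').2 h2)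
        omega
      let P : Sylow 5 K := Sylow.ofCard (Subgroup.zpowers ⟨z, hzK⟩)
        (by rw [Nat.card_zpowers, Subgroup.orderOf_mk, hzo, hf, pow_one])
      let Q : Sylow 5 K := Sylow.ofCard (Subgroup.zpowers ⟨z', hz'⟩)
        (by rw [Nat.card_zpowers, Subgroup.orderOf_mk, hz'o, hf, pow_one])
      obtain ⟨h, hh⟩ := MulAction.exists_smul_eq K P Q
      have h1 : (⟨z', hz'⟩ : K) ∈ ((h • P : Sylow 5 K) : Subgroup K) := by
        rw [hh]
        exact Subgroup.mem_zpowers _
      rw [Sylow.coe_subgroup_smul, Subgroup.mem_pointwise_smul_iff_inv_smul_mem] at h1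
      obtain ⟨i, hi⟩ := Subgroup.mem_zpowers_iff.1 h1
      refine ⟨h, h.2, i, ?_⟩
      have := congrArg Subtype.val hi
      simp only [SubgroupClass.coe_zpow] at this
      rw [this, ← map_inv, MulAut.smul_def, MulAut.conj_apply, inv_inv]
      rfl
    have hmaps : ∀ u v, u ≠ v → z u = u → z v = v →
        ∃ n ∈ G, n a = u ∧ n b = v ∧ ∃ i : ℤ, n⁻¹ * z * n = z ^ i := by
      intro u v huv hu hv
      obtain ⟨g, hg, hga, hgb⟩ := h2t u v huv
      have hz' : g⁻¹ * z * g ∈ K := by
        refine ⟨⟨G.mul_mem (G.mul_mem (G.inv_mem hg) (hKG hzK)) hg, ?_⟩, ?_⟩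
        · change (g⁻¹ * z * g) a = a
          rw [Perm.mul_apply, Perm.mul_apply, hga, hu, ← hga, inv_apply']
        · change (g⁻¹ * z * g) b = b
          rw [Perm.mul_apply, Perm.mul_apply, hgb, hv, ← hgb, inv_apply']
      obtain ⟨h, hh, i, hi⟩ := hsylow _ hz' (by
        rw [← hzo]
        simpa using MulEquiv.orderOf_eq (MulAut.conj g⁻¹) z)
      refine ⟨g * h, mul_mem hg (hKG hh), by rw [Perm.mul_apply, hKa h hh, hga],
        by rw [Perm.mul_apply, hKb h hh, hgb], i, ?_⟩
      rw [← hi]
      group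
    have hkeep : ∀ (n : Perm β) (i : ℤ), n⁻¹ * z * n = z ^ i → ∀ d, z d = d → z (n d) = n d := by
      intro n i hn d hd
      have : z * n = n * z ^ i := by rw [← hn]; group
      rw [← Perm.mul_apply, this, Perm.mul_apply]
      exact congrArg n ((stabilizer (Perm β) d).zpow_mem (x := z) hd i)
    have hs := hz10 z hzK hzo
    have hza := hKa z hzK
    have hzb := hKb z hzK
    have hcompl : z.supportᶜ.card = 3 := by rw [Finset.card_compl, hs, hcard]
    obtain ⟨w, hw, hwab⟩ : ∃ w ∈ z.supportᶜ, w ∉ ({a, b} : Finset β) := by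
      apply Finset.exists_mem_notMem_of_card_lt_card
      rw [Finset.card_pair hab, hcompl]
      norm_num
    simp only [Finset.mem_compl, Perm.mem_support, not_not] at hw
    simp only [Finset.mem_insert, Finset.mem_singleton, not_or] at hwab
    obtain ⟨hwa, hwb⟩ := hwab
    have hthree : z.supportᶜ = {a, b, w} := by
      refine (Finset.eq_of_subset_of_card_le ?_ ?_).symm
      · intro d hd
        rw [Finset.mem_compl, Perm.mem_support, not_not]
        simp only [Finset.mem_insert, Finset.mem_singleton] at hd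
        rcases hd with rfl | rfl | rfl <;> assumption
      · rw [hcompl, Finset.card_eq_three.2 ⟨a, b, w, hab, Ne.symm hwa, Ne.symm hwb, rfl⟩]
    have hfix3 : ∀ d, z d = d → d = a ∨ d = b ∨ d = w := fun d hd => by
      have : d ∈ z.supportᶜ := by rw [Finset.mem_compl, Perm.mem_support, not_not]; exact hd
      rw [hthree] at this
      simpa using this
    obtain ⟨n1, hn1G, h1a, h1b, i, hi⟩ := hmaps b a (Ne.symm hab) hzb hza
    obtain ⟨n2, hn2G, h2a, h2b, j, hj⟩ := hmaps a w (Ne.symm hwa) hza hw
    have h1w : n1 w = w := by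
      rcases hfix3 _ (hkeep n1 i hi w hw) with h | h | h
      · exact absurd (n1.injective (h.trans h1b.symm)) hwb
      · exact absurd (n1.injective (h.trans h1a.symm)) hwa
      · exact h
    have h2w : n2 w = b := by
      rcases hfix3 _ (hkeep n2 j hj w hw) with h | h | h
      · exact absurd (n2.injective (h.trans h2a.symm)) hwa
      · exact h
      · exact absurd (n2.injective (h.trans h2b.symm)) hwb
    set c := n1 * n2 * n1⁻¹ * n2⁻¹ with hc
    have hinv : ∀ (n : Perm β) (u v : β), n u = v → n⁻¹ v = u := fun n u v h => by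
      rw [← h]; exact inv_apply' n u
    have hca : c a = w := by
      rw [hc, Perm.mul_apply, Perm.mul_apply, Perm.mul_apply, hinv n2 a a h2a, hinv n1 b a h1b,
        h2b, h1w]
    have hcw : c w = b := by
      rw [hc, Perm.mul_apply, Perm.mul_apply, Perm.mul_apply, hinv n2 b w h2b, hinv n1 a b h1a,
        h2a, h1a]
    have hcb : c b = a := by
      rw [hc, Perm.mul_apply, Perm.mul_apply, Perm.mul_apply, hinv n2 w b h2w, hinv n1 w w h1w,
        h2w, h1b]
    have hcz : Commute c z := by
      have e1 : (n1 * n2)⁻¹ * z * (n1 * n2) = z ^ (i * j) := by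
        rw [show (n1 * n2)⁻¹ * z * (n1 * n2) = n2⁻¹ * (n1⁻¹ * z * n1) * n2⁻¹⁻¹ by group, hi,
          ← conj_zpow, inv_inv, hj, ← zpow_mul, mul_comm j i]
      have e2 : (n2 * n1)⁻¹ * z * (n2 * n1) = z ^ (i * j) := by
        rw [show (n2 * n1)⁻¹ * z * (n2 * n1) = n1⁻¹ * (n2⁻¹ * z * n2) * n1⁻¹⁻¹ by group, hj,
          ← conj_zpow, inv_inv, hi, ← zpow_mul]
      have e3 : c⁻¹ * z * c = z := by
        rw [show c⁻¹ * z * c = (n2 * n1) * ((n1 * n2)⁻¹ * z * (n1 * n2)) * (n2 * n1)⁻¹ by
          rw [hc]; group, e1, ← e2]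
        group
      have e4 := congrArg (c * ·) e3
      simp only [← mul_assoc, mul_inv_cancel, one_mul] at e4
      exact e4.symm
    set C := c ^ 10 with hC
    have hC3 : ∀ d, c (c (c d)) = d → C d = c d := fun d hd => by
      rw [hC]
      simp only [pow_succ, pow_zero, one_mul, Perm.mul_apply]
      rw [hd, hd, hd]
    have hCa : C a = w := (hC3 a (by rw [hca, hcw, hcb])).trans hca
    have hCb : C b = a := (hC3 b (by rw [hcb, hca, hcw])).trans hcb
    have hCw : C w = b := (hC3 w (by rw [hcw, hcb, hca])).trans hcw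
    have hCout : ∀ d, z d ≠ d → C d = d := by
      intro d hd
      have hmov : ∀ u, z u ≠ u → z (c u) ≠ c u := fun u hu h => hu (c.injective (by
        rw [← Perm.mul_apply, hcz.eq, Perm.mul_apply]; exact h))
      have hsub : ∀ u, z u ≠ u → orbit (Subgroup.zpowers z) u ⊆ (z.support : Set β) := by
        rintro u hu _ ⟨⟨r, hr⟩, rfl⟩
        obtain ⟨t, rfl⟩ := Subgroup.mem_zpowers_iff.1 hr
        simp only [Finset.mem_coe, Subgroup.mk_smul, Perm.smul_def]
        exact Perm.zpow_apply_mem_support.2 (Perm.mem_support.2 hu)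
      have hsq : ∃ t : ℤ, c (c d) = (z ^ t) d := by
        by_cases hcd : c d ∈ orbit (Subgroup.zpowers z) d
        · obtain ⟨⟨r, hr⟩, hrd⟩ := hcd
          obtain ⟨t, rfl⟩ := Subgroup.mem_zpowers_iff.1 hr
          simp only [Subgroup.mk_smul, Perm.smul_def] at hrd
          refine ⟨t + t, ?_⟩
          rw [← hrd, ← Perm.mul_apply, (hcz.zpow_right t).eq, Perm.mul_apply, ← hrd,
            ← Perm.mul_apply, ← zpow_add]
        · have hdj : Disjoint (orbit (Subgroup.zpowers z) d) (orbit (Subgroup.zpowers z) (c d)) := by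
            rw [Set.disjoint_left]
            intro u hu hu'
            apply hcd
            rw [← orbit_eq_iff.2 hu, orbit_eq_iff.2 hu']
            exact mem_orbit_self (c d)
          have huniv : orbit (Subgroup.zpowers z) d ∪ orbit (Subgroup.zpowers z) (c d) =
              (z.support : Set β) := by
            refine Set.eq_of_subset_of_ncard_le
              (Set.union_subset (hsub d hd) (hsub _ (hmov d hd))) ?_
            rw [Set.ncard_union_eq hdj, ncard_orbit_zpowers (by norm_num) hzo hd,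
              ncard_orbit_zpowers (by norm_num) hzo (hmov d hd), Set.ncard_coe_finset, hs]
          have hin : c (c d) ∈ orbit (Subgroup.zpowers z) d ∪ orbit (Subgroup.zpowers z) (c d) := by
            rw [huniv]
            exact Perm.mem_support.2 (hmov _ (hmov d hd))
          rcases hin with ⟨⟨r, hr⟩, hrd⟩ | ⟨⟨r, hr⟩, hrd⟩
          · obtain ⟨t, rfl⟩ := Subgroup.mem_zpowers_iff.1 hr
            simp only [Subgroup.mk_smul, Perm.smul_def] at hrd
            exact ⟨t, hrd.symm⟩
          · obtain ⟨t, rfl⟩ := Subgroup.mem_zpowers_iff.1 hr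
            simp only [Subgroup.mk_smul, Perm.smul_def] at hrd
            rw [← Perm.mul_apply, ← (hcz.zpow_right t).eq,
              Perm.mul_apply] at hrd
            exact absurd ⟨⟨z ^ t, Subgroup.zpow_mem_zpowers z t⟩, c.injective hrd⟩ hcd
      obtain ⟨t, ht⟩ := hsq
      have key : ∀ k : ℕ, ((c * c) ^ k) d = ((z ^ t) ^ k) d := by
        intro k
        induction k with
        | zero => rfl
        | succ k ih =>
          have hck : Commute ((c * c) ^ k) (z ^ t) :=
            ((hcz.mul_left hcz).zpow_right t).pow_left k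
          rw [pow_succ, Perm.mul_apply, Perm.mul_apply, ht, ← Perm.mul_apply, hck.eq,
            Perm.mul_apply, ih, ← Perm.mul_apply, ← pow_succ']
      have h10 : C = (c * c) ^ 5 := by rw [hC, ← pow_two, ← pow_mul]
      rw [h10, key, ← zpow_natCast, ← zpow_mul, mul_comm, zpow_mul, zpow_natCast, ← hzo,
        pow_orderOf_eq_one, one_zpow, Perm.one_apply]
    have hCG : C ∈ G :=
      G.pow_mem (mul_mem (mul_mem (mul_mem hn1G hn2G) (inv_mem hn1G)) (inv_mem hn2G)) _
    have hCs : C.support = {a, b, w} := by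
      rw [← hthree]
      ext d
      rw [Perm.mem_support, Finset.mem_compl, Perm.mem_support, not_not]
      constructor
      · exact fun h => by_contra fun h' => h (hCout d h')
      · intro hd hCd
        rcases hfix3 d hd with e | e | e <;> rw [e] at hCd
        · exact hwa (hCa.symm.trans hCd)
        · exact hab (hCb.symm.trans hCd)
        · exact hwb (hCw.symm.trans hCd).symm
    refine hne (Equiv.Perm.alternatingGroup_le_of_isPreprimitive_of_isThreeCycle_mem hprim ?_ hCG)
    rw [← card_support_eq_three_iff, hCs,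
      Finset.card_eq_three.2 ⟨a, b, w, hab, Ne.symm hwa, Ne.symm hwb, rfl⟩]
  -- the Sylow `11`-subgroup of `K` is self-normalising
  set x0 : K := ⟨x, ⟨⟨hxG, hxa⟩, hxb⟩⟩ with hx0
  have hxo : orderOf x = 11 := by rw [hx.orderOf, hxp]
  have hx0o : orderOf x0 = 11 := (Subgroup.orderOf_coe x0).symm.trans hxo
  have hKfix : ∀ g ∈ K, ∀ d, x d = d → g d = d := fun g hg d hd => by
    rcases (hfix d).1 hd with rfl | rfl
    · exact hKa g hg
    · exact hKb g hg
  have hcomm : ∀ g : K, g * x0 * g⁻¹ ∈ Subgroup.zpowers x0 → g * x0 = x0 * g := by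
    intro g hg
    obtain ⟨i, hi⟩ := Subgroup.mem_zpowers_iff.1 hg
    have hpow : ∀ n : ℕ, g ^ n * x0 * (g ^ n)⁻¹ = x0 ^ (i ^ n) := by
      intro n
      induction n with
      | zero => simp
      | succ n ih =>
        have h1 : g ^ (n + 1) * x0 * (g ^ (n + 1))⁻¹ = g * (g ^ n * x0 * (g ^ n)⁻¹) * g⁻¹ := by
          rw [pow_succ']; group
        rw [h1, ih, ← conj_zpow, ← hi, ← zpow_mul, pow_succ']
    have h1 := hpow (Nat.card K)
    rw [pow_card_eq_one'] at h1
    simp only [one_mul, inv_one, mul_one] at h1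
    have h2 : (11 : ℤ) ∣ i ^ Nat.card K - 1 := by
      have : ((orderOf x0 : ℕ) : ℤ) ∣ i ^ Nat.card K - 1 := by
        rw [orderOf_dvd_iff_zpow_eq_one, zpow_sub, ← h1, zpow_one, mul_inv_cancel]
      rwa [hx0o] at this
    have h3 : ((i : ZMod 11)) ^ Nat.card K = 1 := by
      have := (ZMod.intCast_zmod_eq_zero_iff_dvd _ 11).2 h2
      push_cast at this
      exact sub_eq_zero.1 this
    have hi0 : (i : ZMod 11) ≠ 0 := by
      intro h0
      rw [h0, zero_pow Nat.card_pos.ne'] at h3
      exact zero_ne_one h3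
    have h4 : orderOf (i : ZMod 11) ∣ 10 :=
      orderOf_dvd_of_pow_eq_one (ZMod.pow_card_sub_one_eq_one hi0)
    have h5' : orderOf (i : ZMod 11) ∣ Nat.card K := orderOf_dvd_of_pow_eq_one h3
    have h6 : orderOf (i : ZMod 11) ∣ 2 := by
      have hcop : (orderOf (i : ZMod 11)).Coprime 5 := by
        apply Nat.Coprime.symm
        rw [Nat.Prime.coprime_iff_not_dvd (by norm_num)]
        exact fun h => h5 (h.trans h5')
      exact hcop.dvd_of_dvd_mul_right (show orderOf (i : ZMod 11) ∣ 2 * 5 from h4)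
    have h7' : (i : ZMod 11) = 1 ∨ (i : ZMod 11) = -1 := by
      rw [← sq_eq_one_iff]
      exact orderOf_dvd_iff_pow_eq_one.1 h6
    rcases h7' with h8 | h8
    · have h9 : (11 : ℤ) ∣ i - 1 :=
        (ZMod.intCast_zmod_eq_zero_iff_dvd _ 11).1 (by push_cast; rw [h8, sub_self])
      have h10 : x0 ^ (i - 1) = 1 := by
        rw [← orderOf_dvd_iff_zpow_eq_one, hx0o]
        exact_mod_cast h9
      rw [zpow_sub, zpow_one, mul_inv_eq_one] at h10
      rw [h10] at hi
      rw [← mul_inv_eq_iff_eq_mul]
      exact hi.symm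
    · have h9 : (11 : ℤ) ∣ i + 1 :=
        (ZMod.intCast_zmod_eq_zero_iff_dvd _ 11).1 (by push_cast; rw [h8, neg_add_cancel])
      have h10 : x0 ^ (i + 1) = 1 := by
        rw [← orderOf_dvd_iff_zpow_eq_one, hx0o]
        exact_mod_cast h9
      rw [zpow_add, zpow_one, mul_eq_one_iff_eq_inv] at h10
      rw [h10] at hi
      have h11 := congrArg Subtype.val hi.symm
      have h12 := not_inverts hx hxp (hKfix g.1 g.2) h11
      have h13 : Perm.sign g.1 = 1 := hG (hKG g.2)
      rw [h13] at h12
      exact absurd h12 (by decide)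
  have h121 : ¬ 11 ^ 2 ∣ Nat.card K := fun h => by
    have := h.trans hn13
    norm_num [Nat.factorial] at this
  have h11 : 11 ∣ Nat.card K := hx0o ▸ orderOf_dvd_natCard x0
  have hf : (Nat.card K).factorization 11 = 1 := by
    have h1 := ((Nat.Prime.pow_dvd_iff_le_factorization (by norm_num) Nat.card_pos.ne').1
      (by rwa [pow_one] : 11 ^ 1 ∣ Nat.card K))
    have h2 : ¬ 2 ≤ (Nat.card K).factorization 11 := fun h2 =>
      h121 ((Nat.Prime.pow_dvd_iff_le_factorization (by norm_num) Nat.card_pos.ne').2 h2)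
    omega
  let P : Sylow 11 K := Sylow.ofCard (Subgroup.zpowers x0)
    (by rw [Nat.card_zpowers, hx0o, hf, pow_one])
  have hPcoe : (P : Subgroup K) = Subgroup.zpowers x0 := rfl
  have hburn : Subgroup.normalizer ((P : Subgroup K) : Set K) ≤
      Subgroup.centralizer ((P : Subgroup K) : Set K) := by
    intro g hg
    rw [hPcoe] at hg ⊢
    have hc := hcomm g ((Subgroup.mem_normalizer_iff.1 hg x0).1 (Subgroup.mem_zpowers x0))
    rw [Subgroup.mem_centralizer_iff]
    intro u hu
    obtain ⟨k, rfl⟩ := Subgroup.mem_zpowers_iff.1 hu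
    exact ((show Commute g x0 from hc).zpow_right k).eq.symm
  set N := (MonoidHom.transferSylow P hburn).ker with hN
  have hcompl := MonoidHom.ker_transferSylow_isComplement' P hburn
  have hN11 : ¬ 11 ∣ Nat.card N := MonoidHom.not_dvd_card_ker_transferSylow P hburn
  have hNtriv : ∀ k ∈ N, k = 1 := by
    intro k hk
    apply Subtype.ext
    ext e
    change (k : Perm β) e = e
    by_contra hke
    have hxe : x e ≠ e := fun h => hke (hKfix k.1 k.2 e h)
    have hkxe : x ((k : Perm β) e) ≠ (k : Perm β) e := fun h =>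
      hke ((k : Perm β).injective (hKfix k.1 k.2 _ h))
    set N' := N.map K.subtype with hN'
    have hO : ∀ d, d ∈ orbit N' e → x d ≠ d := by
      rintro d ⟨⟨u, hu⟩, rfl⟩ h
      obtain ⟨u0, hu0, rfl⟩ := hu
      have h1 := hKfix u0.1 u0.2 _ h
      have h2 : (K.subtype u0) e = e := (K.subtype u0).injective h1
      exact hxe (by
        change x ((K.subtype u0) e) = (K.subtype u0) e at h
        rwa [h2] at h)
    obtain ⟨i, hi⟩ := hx.exists_zpow_eq hxe hkxe
    have hinv : ∀ d ∈ orbit N' e, (x ^ i) d ∈ orbit N' e := by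
      rintro d ⟨⟨u, hu⟩, rfl⟩
      obtain ⟨u0, hu0, rfl⟩ := hu
      refine ⟨⟨K.subtype (x0 ^ i * u0 * (x0 ^ i)⁻¹ * k), Subgroup.mem_map_of_mem _
        (mul_mem ((MonoidHom.normal_ker _).conj_mem u0 hu0 _) hk)⟩, ?_⟩
      change (x ^ i * (u0 : Perm β) * (x ^ i)⁻¹ * (k : Perm β)) e = (x ^ i) ((u0 : Perm β) e)
      rw [Perm.mul_apply, ← hi, Perm.mul_apply, Perm.mul_apply, inv_apply']
    have hxi : orderOf (x ^ i) = 11 := by
      have h1 : orderOf (x ^ i) ∣ 11 :=
        hxo ▸ orderOf_dvd_of_mem_zpowers (Subgroup.zpow_mem_zpowers x i)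
      rcases (Nat.dvd_prime (by norm_num)).1 h1 with h | h
      · rw [orderOf_eq_one_iff] at h
        rw [h, Perm.one_apply] at hi
        exact absurd hi.symm hke
      · exact h
    have hmov : (x ^ i) e ≠ e := by rw [hi]; exact hke
    have hsub : orbit (Subgroup.zpowers (x ^ i)) e ⊆ orbit N' e := by
      rintro _ ⟨⟨r, hr⟩, rfl⟩
      obtain ⟨n, rfl⟩ := (mem_powers_iff_mem_zpowers.2 hr :)
      change ((x ^ i) ^ n) e ∈ orbit N' e
      clear hr
      induction n with
      | zero => exact mem_orbit_self e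
      | succ n ih =>
        rw [pow_succ', Perm.mul_apply]
        exact hinv _ ih
    have heq : orbit N' e = (x.support : Set β) := by
      refine Set.eq_of_subset_of_ncard_le (fun d hd => Perm.mem_support.2 (hO d hd)) ?_
      rw [Set.ncard_coe_finset, hxp, ← ncard_orbit_zpowers (by norm_num) hxi hmov]
      exact Set.ncard_le_ncard hsub
    apply hN11
    have h1 := Sharp.card_eq_orbit_mul N' e
    rw [heq, Set.ncard_coe_finset, hxp, hN',
      Subgroup.card_map_of_injective K.subtype_injective] at h1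
    exact ⟨_, h1⟩
  apply hn11
  have h1 := hcompl.card_mul_card
  have hN1 : N = ⊥ := (Subgroup.eq_bot_iff_forall _).2 hNtriv
  rw [← hN, hN1, Subgroup.card_bot, one_mul, hPcoe, Nat.card_zpowers, hx0o] at h1
  exact h1.symm

end Cfsg.Agent.PrimeCycles.Twin11
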